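import Mathlib

/-!
# Extending a ring map to finitely many fractions with a common denominator
-/

set_option autoImplicit false
universe u v w

noncomputable section

namespace GrothLib.IntBlow7

set_option maxHeartbeats 400000

open Polynomial

/-- Values of a scaled polynomial at a multiple. -/
theorem pow_eq_mul_of_scaleRoots {A : Type u} {O : Type v} [CommRing A] [CommRing O] (ρ : A →+* O) (p : A[X])
    (hp : p.Monic) {c g : A} (hpg : (scaleRoots p c).eval g = 0) {h c' g' : O} (hc : ρ c = c' * h) (hg : ρ g = g' * h)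
    (hh : ∀ x : O, x * h = 0 → x = 0) : g' ^ p.natDegree ∈ Ideal.span {c'} := by
  have h1 : ∀ (n : ℕ) (x : O), x * h ^ n = 0 → x = 0 := by
    intro n
    induction n with
    | zero => intro x hx; simpa using hx
    | succ n ih => intro x hx; exact ih x (hh _ (by rw [mul_assoc, ← pow_succ]; exact hx))
  have h2 := congrArg ρ hpg
  rw [eval_eq_sum_range, natDegree_scaleRoots, map_sum, map_zero] at h2
  have h3 : (∑ i ∈ Finset.range (p.natDegree + 1), ρ (p.coeff i) * c' ^ (p.natDegree - i) * g' ^ i) = 0 := by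
    refine h1 p.natDegree _ ?_
    rw [Finset.sum_mul, ← h2]
    refine Finset.sum_congr rfl fun i hi => ?_
    rw [coeff_scaleRoots, map_mul, map_mul, map_pow, map_pow, hc, hg, mul_pow, mul_pow]
    have : h ^ p.natDegree = h ^ (p.natDegree - i) * h ^ i := by
      rw [← pow_add, Nat.sub_add_cancel (Nat.lt_succ_iff.1 (Finset.mem_range.1 hi))]
    rw [this]
    ring
  rw [Finset.sum_range_succ, Nat.sub_self, pow_zero, mul_one, hp.coeff_natDegree, map_one, one_mul] at h3
  rw [eq_neg_of_add_eq_zero_right h3]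
  refine neg_mem (sum_mem fun i hi => ?_)
  refine Ideal.mem_span_singleton.2 ⟨ρ (p.coeff i) * c' ^ (p.natDegree - i - 1) * g' ^ i, ?_⟩
  obtain ⟨k, hk⟩ : ∃ k, p.natDegree - i = k + 1 := ⟨p.natDegree - i - 1, by have := Finset.mem_range.1 hi; omega⟩
  rw [hk, Nat.add_sub_cancel]
  ring

variable {A : Type u} [CommRing A] {M : Type v} [CommRing M] [Algebra A M] {c : A} {O : Type w} [CommRing O]

theorem exists_fraction {n : ℕ} (f : Fin n → M) (g : Fin n → A)
    (hg : ∀ i, algebraMap A M (g i) = algebraMap A M c * f i) (x : Algebra.adjoin A (Set.range f)) :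
    ∃ (N : ℕ) (a : A), algebraMap A (Algebra.adjoin A (Set.range f)) c ^ N * x =
      algebraMap A (Algebra.adjoin A (Set.range f)) a := by
  have key : ∀ y ∈ Algebra.adjoin A (Set.range f), ∃ (N : ℕ) (a : A), algebraMap A M c ^ N * y = algebraMap A M a := by
    intro y hy
    induction hy using Algebra.adjoin_induction with
    | mem z hz =>
      obtain ⟨i, rfl⟩ := hz
      exact ⟨1, g i, by rw [pow_one, hg]⟩
    | algebraMap r => exact ⟨0, r, by rw [pow_zero, one_mul]⟩
    | add y z _ _ h1 h2 =>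
      obtain ⟨N, a, ha⟩ := h1
      obtain ⟨N', a', ha'⟩ := h2
      refine ⟨N + N', c ^ N' * a + c ^ N * a', ?_⟩
      rw [map_add, map_mul, map_mul, map_pow, map_pow, ← ha, ← ha']
      ring
    | mul y z _ _ h1 h2 =>
      obtain ⟨N, a, ha⟩ := h1
      obtain ⟨N', a', ha'⟩ := h2
      refine ⟨N + N', a * a', ?_⟩
      rw [map_mul, ← ha, ← ha']
      ring
  obtain ⟨N, a, h⟩ := key x x.2
  exact ⟨N, a, Subtype.ext h⟩

theorem pow_cancel (γ : O) (hγ : ∀ y : O, y * γ = 0 → y = 0) {N : ℕ} {y y' : O} (h : γ ^ N * y = γ ^ N * y') :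
    y = y' := by
  induction N with
  | zero => simpa using h
  | succ N ih =>
    refine ih (sub_eq_zero.1 (hγ _ ?_))
    rw [sub_mul, sub_eq_zero]
    calc γ ^ N * y * γ = γ ^ (N + 1) * y := by ring
      _ = γ ^ (N + 1) * y' := h
      _ = γ ^ N * y' * γ := by ring

/-- A generator of a locally principal ideal generated by fractions over an integral base is the denominator. -/
theorem unit_of_multiples (hinj : Function.Injective (algebraMap A M)) {n : ℕ} (f : Fin n → M) (g : Fin n → A)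
    (hg : ∀ i, algebraMap A M (g i) = algebraMap A M c * f i) (hf : ∀ i, IsIntegral A (f i)) (ρ : A →+* O) {h : O}
    (hh : ∀ x : O, x * h = 0 → x = 0) (hmem : h ∈ (Ideal.span (insert c (Set.range g))).map ρ)
    (hmult : ∀ a ∈ Ideal.span (insert c (Set.range g)), ∃ y, ρ a = y * h) :
    ∃ u : Oˣ, ρ c = u * h ∧ ∀ i, ∃ e, ρ (g i) = e * ρ c := by
  obtain ⟨c', hc'⟩ := hmult c (Ideal.subset_span (Set.mem_insert _ _))
  choose g' hg' using fun i => hmult (g i) (Ideal.subset_span (Set.mem_insert_of_mem _ ⟨i, rfl⟩))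
  have hle : (Ideal.span (insert c (Set.range g))).map ρ ≤ Ideal.span {h} * Ideal.span (insert c' (Set.range g')) := by
    rw [Ideal.map_span, Ideal.span_le]
    rintro _ ⟨a, (rfl | ⟨i, rfl⟩), rfl⟩
    · rw [SetLike.mem_coe, hc', mul_comm c' h]
      exact Ideal.mul_mem_mul (I := Ideal.span {h}) (Ideal.mem_span_singleton_self _) (Ideal.subset_span (Set.mem_insert _ _))
    · rw [SetLike.mem_coe, hg', mul_comm (g' i) h]
      exact Ideal.mul_mem_mul (I := Ideal.span {h}) (Ideal.mem_span_singleton_self _) (Ideal.subset_span (Set.mem_insert_of_mem _ ⟨i, rfl⟩))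
  obtain ⟨z, hz, hz'⟩ := Ideal.mem_span_singleton_mul.1 (hle hmem)
  have hz1 : z = 1 := sub_eq_zero.1 (hh _ (by rw [sub_mul, one_mul, mul_comm z, hz', sub_self]))
  have hrad : ∀ i, g' i ∈ (Ideal.span {c'}).radical := fun i => by
    obtain ⟨p, hp, hpf⟩ := hf i
    refine ⟨p.natDegree, pow_eq_mul_of_scaleRoots ρ p hp (c := c) (g := g i) ?_ hc' (hg' i) hh⟩
    refine hinj ?_
    rw [map_zero, ← Polynomial.aeval_algebraMap_apply_eq_algebraMap_eval, hg]
    exact Polynomial.scaleRoots_aeval_eq_zero hpf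
  have hunit : IsUnit c' := by
    rw [← Ideal.span_singleton_eq_top, ← Ideal.radical_eq_top, Ideal.eq_top_iff_one, ← hz1]
    refine (Ideal.span_le.2 (fun y hy => ?_)) hz
    rcases hy with rfl | ⟨i, rfl⟩
    · exact Ideal.le_radical (Ideal.mem_span_singleton_self _)
    · exact hrad i
  obtain ⟨u, rfl⟩ := hunit
  refine ⟨u, hc', fun i => ⟨g' i * (↑u⁻¹ : O), ?_⟩⟩
  rw [hc', hg', mul_assoc, ← mul_assoc (↑u⁻¹ : O), Units.inv_mul, one_mul]

/-- Extensions agree. -/
theorem hom_ext_fraction {n : ℕ} (f : Fin n → M) (g : Fin n → A)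
    (hg : ∀ i, algebraMap A M (g i) = algebraMap A M c * f i)
    (φ₁ φ₂ : Algebra.adjoin A (Set.range f) →+* O)
    (h : ∀ a, φ₁ (algebraMap A _ a) = φ₂ (algebraMap A _ a))
    (hγ : ∀ y : O, y * φ₁ (algebraMap A _ c) = 0 → y = 0) : φ₁ = φ₂ := RingHom.ext fun x => by
  obtain ⟨N, a, ha⟩ := exists_fraction f g hg x
  refine pow_cancel _ hγ (N := N) ?_
  have h1 := congrArg φ₁ ha
  have h2 := congrArg φ₂ ha
  rw [map_mul, map_pow] at h1 h2
  rw [h1, h, h c, h2]

/-- Extensions exist. -/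
theorem exists_extend (hinj : Function.Injective (algebraMap A M)) (φ : A →+* O)
    (hγ : ∀ y : O, y * φ c = 0 → y = 0) {n : ℕ} (f : Fin n → M) (g : Fin n → A)
    (hg : ∀ i, algebraMap A M (g i) = algebraMap A M c * f i) (he : ∀ i, ∃ e, φ (g i) = e * φ c) :
    ∃ ψ : Algebra.adjoin A (Set.range f) →+* O, ∀ a, ψ (algebraMap A _ a) = φ a := by
  let R : M → O → Prop := fun x y => ∃ (N : ℕ) (a : A), algebraMap A M c ^ N * x = algebraMap A M a ∧ φ c ^ N * y = φ a
  have huniq : ∀ {x y y'}, R x y → R x y' → y = y' := by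
    rintro x y y' ⟨N, a, ha, hy⟩ ⟨N', a', ha', hy'⟩
    refine pow_cancel _ hγ (N := N + N') ?_
    have h0 : c ^ N' * a = c ^ N * a' := hinj (by rw [map_mul, map_mul, map_pow, map_pow, ← ha, ← ha']; ring)
    calc φ c ^ (N + N') * y = φ (c ^ N' * a) := by rw [map_mul, map_pow, ← hy]; ring
      _ = φ (c ^ N * a') := by rw [h0]
      _ = φ c ^ (N + N') * y' := by rw [map_mul, map_pow, ← hy']; ring
  have hmul : ∀ {x y x' y'}, R x y → R x' y' → R (x * x') (y * y') := by
    rintro x y x' y' ⟨N, a, ha, hy⟩ ⟨N', a', ha', hy'⟩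
    exact ⟨N + N', a * a', by rw [map_mul, ← ha, ← ha']; ring, by rw [map_mul, ← hy, ← hy']; ring⟩
  have hadd : ∀ {x y x' y'}, R x y → R x' y' → R (x + x') (y + y') := by
    rintro x y x' y' ⟨N, a, ha, hy⟩ ⟨N', a', ha', hy'⟩
    exact ⟨N + N', c ^ N' * a + c ^ N * a', by rw [map_add, map_mul, map_mul, map_pow, map_pow, ← ha, ← ha']; ring,
      by rw [map_add, map_mul, map_mul, map_pow, map_pow, ← hy, ← hy']; ring⟩
  have halg : ∀ a, R (algebraMap A M a) (φ a) := fun a => ⟨0, a, by simp, by simp⟩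
  have hex : ∀ x ∈ Algebra.adjoin A (Set.range f), ∃ y, R x y := by
    intro x hx
    induction hx using Algebra.adjoin_induction with
    | mem z hz =>
      obtain ⟨i, rfl⟩ := hz
      obtain ⟨e, he⟩ := he i
      exact ⟨e, 1, g i, by rw [pow_one, hg], by rw [pow_one, he, mul_comm]⟩
    | algebraMap r => exact ⟨φ r, halg r⟩
    | add y z _ _ h1 h2 => exact ⟨_, hadd h1.choose_spec h2.choose_spec⟩
    | mul y z _ _ h1 h2 => exact ⟨_, hmul h1.choose_spec h2.choose_spec⟩
  choose ψ hψ using fun x : Algebra.adjoin A (Set.range f) => hex x x.2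
  refine ⟨{ toFun := ψ, map_one' := huniq (hψ 1) ?_, map_mul' := fun x y => huniq (hψ _) (hmul (hψ x) (hψ y)),
            map_zero' := huniq (hψ 0) ?_, map_add' := fun x y => huniq (hψ _) (hadd (hψ x) (hψ y)) },
    fun a => huniq (hψ _) (halg a)⟩
  · have h := halg 1
    rwa [map_one, map_one] at h
  · have h := halg 0
    rwa [map_zero, map_zero] at h

end GrothLib.IntBlow7
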