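import Groth.Agent.Lib.FFormal7.Sections
import Groth.Agent.Lib.FormalExist7.IdealSys
import Groth.Prelude.Def_FBlow

/-!
# Ideals generated by global functions on a formal system over an affine scheme
-/

set_option autoImplicit false
set_option linter.style.haveILetI false
set_option linter.unusedSectionVars false
set_option backward.isDefEq.respectTransparency false
set_option maxHeartbeats 1200000
universe u

open CategoryTheory CategoryTheory.Limits AlgebraicGeometry TopologicalSpace Opposite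

noncomputable section

namespace GrothLib.IntBlow7

/-- The functions given by a morphism to an affine scheme. -/
def secOf {X : Scheme.{u}} {R : CommRingCat.{u}} (f : X ⟶ Spec R) : R →+* Γ(X, ⊤) :=
  ((Scheme.ΓSpecIso R).inv ≫ f.appTop).hom

/-- The morphism to an affine scheme given by functions. -/
def toSpec {X : Scheme.{u}} {R : CommRingCat.{u}} (φ : R →+* Γ(X, ⊤)) : X ⟶ Spec R :=
  X.toSpecΓ ≫ Spec.map (CommRingCat.ofHom φ)

theorem secOf_toSpec {X : Scheme.{u}} {R : CommRingCat.{u}} (φ : R →+* Γ(X, ⊤)) : secOf (toSpec φ) = φ := by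
  rw [secOf, toSpec, Scheme.Hom.comp_appTop, Scheme.toSpecΓ_appTop, Scheme.ΓSpecIso_naturality]
  simp

theorem secOf_ext {X : Scheme.{u}} {R : CommRingCat.{u}} {f g : X ⟶ Spec R} (h : secOf f = secOf g) : f = g := by
  refine ext_of_isAffine ?_
  have h1 : (Scheme.ΓSpecIso R).inv ≫ f.appTop = (Scheme.ΓSpecIso R).inv ≫ g.appTop := CommRingCat.hom_ext h
  exact (cancel_epi _).1 h1

theorem secOf_comp_map {X : Scheme.{u}} {R S : CommRingCat.{u}} (f : X ⟶ Spec R) (φ : S ⟶ R) :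
    secOf (f ≫ Spec.map φ) = (secOf f).comp φ.hom := by
  rw [secOf, secOf, Scheme.Hom.comp_appTop, ← CommRingCat.hom_comp]
  congr 1
  rw [← Category.assoc, ← Scheme.ΓSpecIso_inv_naturality, Category.assoc]

theorem secOf_precomp {W X : Scheme.{u}} {R : CommRingCat.{u}} (v : W ⟶ X) (f : X ⟶ Spec R) :
    secOf (v ≫ f) = v.appTop.hom.comp (secOf f) := rfl

section Sheaf

variable {T : TopCat.{u}} {O : Sheaf (Opens.grothendieckTopology T) CommRingCat.{u}}

open FBlow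

/-- Restriction. -/
abbrev res {U V : Opens T} (i : V ≤ U) : O.obj.obj (op U) →+* O.obj.obj (op V) := (O.obj.map (homOfLE i).op).hom

theorem res_res {U V W : Opens T} (i : V ≤ U) (j : W ≤ V) (s : O.obj.obj (op U)) :
    res j (res i s) = res (j.trans i) s := IdealSh.map_comp_apply i j s

theorem res_self {U : Opens T} (i : U ≤ U) (s : O.obj.obj (op U)) : res i s = s := IdealSh.map_id_apply i s

theorem eq_zero_of_local {U : Opens T} (s : O.obj.obj (op U))
    (hs : ∀ x ∈ U, ∃ (V : Opens T) (i : V ≤ U), x ∈ V ∧ res i s = 0) : s = 0 := by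
  have h := (IdealSh.bot O).mem_of_local (U := U) (s := s) fun x hx => by
    obtain ⟨V, i, hxV, h0⟩ := hs x hx
    exact ⟨V, i, hxV, h0⟩
  exact h

/-- A global function without annihilators over any open. -/
def IsNzd (γ : O.obj.obj (op (⊤ : Opens T))) : Prop :=
  ∀ (V : Opens T) (t : O.obj.obj (op V)), t * res le_top γ = 0 → t = 0

/-- Local quotients by such a function glue. -/
theorem exists_div {γ : O.obj.obj (op (⊤ : Opens T))} (hγ : IsNzd γ) {V : Opens T} (s : O.obj.obj (op V))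
    (hs : ∀ x ∈ V, ∃ (W : Opens T) (i : W ≤ V), x ∈ W ∧ ∃ t : O.obj.obj (op W), res i s = t * res le_top γ) :
    ∃ t, s = t * res le_top γ := by
  choose W i hxW t ht using hs
  let F : TopCat.Sheaf CommRingCat.{u} T := O
  have hcompat : TopCat.Presheaf.IsCompatible F.obj (fun x : V => W x.1 x.2) (fun x => t x.1 x.2) := fun x y => by
    refine sub_eq_zero.1 (hγ _ _ ?_)
    rw [sub_mul, sub_eq_zero]
    have h1 := congrArg (res (inf_le_left : W x.1 x.2 ⊓ W y.1 y.2 ≤ W x.1 x.2)) (ht x.1 x.2)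
    have h2 := congrArg (res (inf_le_right : W x.1 x.2 ⊓ W y.1 y.2 ≤ W y.1 y.2)) (ht y.1 y.2)
    rw [map_mul, res_res, res_res] at h1 h2
    exact h1.symm.trans h2
  obtain ⟨t₀, ht₀, -⟩ := TopCat.Sheaf.existsUnique_gluing' F (fun x : V => W x.1 x.2) V
    (fun x => homOfLE (i x.1 x.2)) (fun x hx => Opens.mem_iSup.2 ⟨⟨x, hx⟩, hxW x hx⟩) (fun x => t x.1 x.2) hcompat
  refine ⟨t₀, sub_eq_zero.1 (eq_zero_of_local _ fun x hx => ⟨W x hx, i x hx, hxW x hx, ?_⟩)⟩
  rw [map_sub, map_mul, res_res, ht x hx, sub_eq_zero]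
  exact congrArg (fun z : O.obj.obj (op (W x hx)) => z * res le_top γ) (ht₀ ⟨x, hx⟩).symm

end Sheaf

section Sys

variable {𝔛 : FSch.Sys.{u}} (h : 𝔛.IsFormal) {A : Type u} [CommRing A] (q : ∀ n, 𝔛.X n ⟶ Spec (CommRingCat.of A))
  (hq : ∀ n, 𝔛.ι n ≫ q (n + 1) = q n)

/-- The functions on the formal system coming from the base ring. -/
def fn : A →+* (𝔛.Osh h).obj.obj (op ⊤) :=
  (show Γ(Spec (CommRingCat.of A), ⊤) →+* (𝔛.Osh h).obj.obj (op ⊤) from
    ((FSch.schSharp 𝔛 h q hq).hom.app (op ⊤)).hom).comp (Scheme.ΓSpecIso (CommRingCat.of A)).inv.hom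

theorem proj_fn (n : ℕ) (a : A) : (𝔛.OshProj h n).hom.app (op ⊤) (fn h q hq a) = secOf (q n) a := by
  refine (congrArg (fun φ : (Spec (CommRingCat.of A)).sheaf ⟶ (TopCat.Sheaf.pushforward CommRingCat.{u} (q 0).base).obj
    (𝔛.levelObj h n) => φ.hom.app (op ⊤) ((Scheme.ΓSpecIso (CommRingCat.of A)).inv a))
    (FSch.schSharp_proj 𝔛 h q hq n)).trans ?_
  show (q n).appLE ⊤ _ _ _ = _
  simp [secOf, Scheme.Hom.appLE, Scheme.Hom.appTop]

theorem fn_congr {q' : ∀ n, 𝔛.X n ⟶ Spec (CommRingCat.of A)} (hq' : ∀ n, 𝔛.ι n ≫ q' (n + 1) = q' n)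
    (e : ∀ n, q n = q' n) : fn h q hq = fn h q' hq' :=
  RingHom.ext fun a => FFormal7.Osh_section_ext 𝔛 h ⊤ _ _ fun n => by rw [proj_fn, proj_fn, e]

theorem fn_comp_map {B : Type u} [CommRing B] (φ : B →+* A) (q' : ∀ n, 𝔛.X n ⟶ Spec (CommRingCat.of B))
    (hq' : ∀ n, 𝔛.ι n ≫ q' (n + 1) = q' n) (e : ∀ n, q' n = q n ≫ Spec.map (CommRingCat.ofHom φ)) (b : B) :
    fn h q' hq' b = fn h q hq (φ b) :=
  FFormal7.Osh_section_ext 𝔛 h ⊤ _ _ fun n => by
    rw [proj_fn, proj_fn, e, secOf_comp_map]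
    rfl

open FBlow in
/-- The ideal generated by the functions of an ideal. -/
def genIdeal (𝔞 : Ideal A) : IdealSh (𝔛.Osh h) :=
  IdealSh.gen fun W => (fun a => res le_top (fn h q hq a)) '' (𝔞 : Set A)

end Sys

section Map

open FBlow

variable {A : Type u} [CommRing A] (I : Ideal A) (hX : (FSch.spf A I).IsFormal) {𝔜 : FSch.Sys.{u}} (h : 𝔜.IsFormal)
  (g : 𝔜 ⟶ FSch.spf A I) (𝔞 : Ideal A)

/-- The composites to the affine scheme. -/
abbrev comps (n : ℕ) : 𝔜.X n ⟶ Spec (CommRingCat.of A) := (g : FSch.Hom 𝔜 (FSch.spf A I)).app n ≫ FSch.spfToSpec A I n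

theorem comps_comm (n : ℕ) : 𝔜.ι n ≫ comps I g (n + 1) = comps I g n := by
  rw [comps, comps, ← Category.assoc, ← (g : FSch.Hom 𝔜 (FSch.spf A I)).comm, Category.assoc, FSch.spfToSpec_comm]

/-- The blown up ideal. -/
abbrev JI : IdealSh ((FSch.spf A I).Osh hX) :=
  schIdealMap (FSch.spf A I) hX (FSch.spfToSpec A I) (FSch.spfToSpec_comm A I) (IdealSh.ofData (FSch.idealSpec A 𝔞))

theorem sharp_schSharp (W : (Spec (CommRingCat.of A)).Opens) (a : Γ(Spec (CommRingCat.of A), W)) :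
    (FSch.Hom.sharp g h hX).hom.app (op ((Opens.map (FSch.spfToSpec A I 0).base).obj W))
      ((FSch.schSharp (FSch.spf A I) hX (FSch.spfToSpec A I) (FSch.spfToSpec_comm A I)).hom.app (op W) a) =
    (FSch.schSharp 𝔜 h (comps I g) (comps_comm I g)).hom.app (op W) a := by
  refine FFormal7.Osh_section_ext 𝔜 h _ _ _ fun n => ?_
  refine (congrArg (fun φ : (FSch.spf A I).Osh hX ⟶ (TopCat.Sheaf.pushforward CommRingCat.{u}
      ((g : FSch.Hom 𝔜 (FSch.spf A I)).app 0).base).obj (𝔜.levelObj h n) =>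
      φ.hom.app (op ((Opens.map (FSch.spfToSpec A I 0).base).obj W))
        ((FSch.schSharp (FSch.spf A I) hX (FSch.spfToSpec A I) (FSch.spfToSpec_comm A I)).hom.app (op W) a))
    (FSch.Hom.sharp_proj g h hX n)).trans ?_
  refine (congrArg ((FSch.Hom.levelPush g h hX n).hom.app (op ((Opens.map (FSch.spfToSpec A I 0).base).obj W)))
    (congrArg (fun φ : (Spec (CommRingCat.of A)).sheaf ⟶ (TopCat.Sheaf.pushforward CommRingCat.{u}
      (FSch.spfToSpec A I 0).base).obj ((FSch.spf A I).levelObj hX n) => φ.hom.app (op W) a)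
      (FSch.schSharp_proj (FSch.spf A I) hX _ _ n))).trans ?_
  refine Eq.trans ?_ (congrArg (fun φ : (Spec (CommRingCat.of A)).sheaf ⟶ (TopCat.Sheaf.pushforward CommRingCat.{u}
      (comps I g 0).base).obj (𝔜.levelObj h n) => φ.hom.app (op W) a) (FSch.schSharp_proj 𝔜 h _ _ n)).symm
  show ((g : FSch.Hom 𝔜 (FSch.spf A I)).app n).appLE
      ((FSch.spf A I).lvU hX n ((Opens.map (FSch.spfToSpec A I 0).base).obj W))
      (𝔜.lvU h n (((g : FSch.Hom 𝔜 (FSch.spf A I)).app 0) ⁻¹ᵁ ((Opens.map (FSch.spfToSpec A I 0).base).obj W)))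
      (FSch.Hom.lvU_preimage g h hX n _).ge
      ((FSch.spfToSpec A I n).appLE W ((FSch.spf A I).lvU hX n (FSch.spfToSpec A I 0 ⁻¹ᵁ W))
        (FSch.lvU_p (FSch.spf A I) hX _ (FSch.spfToSpec_comm A I) n W).ge a) = _
  exact ConcreteCategory.congr_hom (FSch.appLE_comp_appLE_of_eq ((g : FSch.Hom 𝔜 (FSch.spf A I)).app n)
    (FSch.spfToSpec A I n) (comps I g n) rfl W _ _ _ _ (FSch.lvU_p 𝔜 h _ (comps_comm I g) n W).ge) a

theorem ideal_idealSpec_affine (V : (Spec (CommRingCat.of A)).affineOpens) :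
    (FSch.idealSpec A 𝔞).ideal V = 𝔞.map (((Spec (CommRingCat.of A)).presheaf.map (homOfLE (le_top : V.1 ≤ ⊤)).op).hom.comp
      (Scheme.ΓSpecIso (CommRingCat.of A)).inv.hom) := by
  rw [← Scheme.IdealSheafData.map_ideal (U := V) (V := ⟨⊤, isAffineOpen_top _⟩) _ (le_top : V.1 ≤ ⊤),
    FormalExist7.ideal_idealSpec, Ideal.map_map]
  rfl

theorem idealMap_le_genIdeal :
    idealMap g h hX (JI I hX 𝔞) ≤ genIdeal h (comps I g) (comps_comm I g) 𝔞 := by
  refine IdealSh.map_le fun W a ha V j => ?_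
  refine (genIdeal h (comps I g) (comps_comm I g) 𝔞).mem_of_local fun y hy => ?_
  obtain ⟨W', i', hyW', hW'⟩ := ha _ (j hy)
  let V' : Opens (𝔜.X 0).toTopCat := V ⊓ (Opens.map ((g : FSch.Hom 𝔜 (FSch.spf A I)).app 0).base).obj W'
  refine ⟨V', inf_le_left, ⟨hy, hyW'⟩, ?_⟩
  let θ : ((FSch.spf A I).Osh hX).obj.obj (op W') →+* (𝔜.Osh h).obj.obj (op V') :=
    (res (inf_le_right : V' ≤ _)).comp ((FSch.Hom.sharp g h hX).hom.app (op W')).hom
  have hnat : ∀ (W'' : Opens ((FSch.spf A I).X 0).toTopCat) (k : W' ≤ W'') (z : ((FSch.spf A I).Osh hX).obj.obj (op W''))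
      (l : V' ≤ (Opens.map ((g : FSch.Hom 𝔜 (FSch.spf A I)).app 0).base).obj W''),
      θ (res k z) = res l ((FSch.Hom.sharp g h hX).hom.app (op W'') z) := fun W'' k z l => by
    refine (congrArg (res (inf_le_right : V' ≤ _)) (congr($((FSch.Hom.sharp g h hX).hom.naturality (homOfLE k).op) z))).trans ?_
    exact res_res _ _ _
  have h1 : θ (res i' a) ∈ (genIdeal h (comps I g) (comps_comm I g) 𝔞).sect V' := by
    refine (Ideal.span_le (I := ((genIdeal h (comps I g) (comps_comm I g) 𝔞).sect V').comap θ)).2 ?_ hW'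
    rintro _ ⟨W'', k, _, ⟨Wb, kb, b, hb, rfl⟩, rfl⟩
    show θ (res k (res kb _)) ∈ (genIdeal h (comps I g) (comps_comm I g) 𝔞).sect V'
    have l : V' ≤ (Opens.map ((g : FSch.Hom 𝔜 (FSch.spf A I)).app 0).base).obj
        ((Opens.map (FSch.spfToSpec A I 0).base).obj Wb) := fun z hz => kb (k hz.2)
    rw [res_res, hnat _ (k.trans kb) _ l]
    erw [sharp_schSharp I hX h g Wb b]
    refine (genIdeal h (comps I g) (comps_comm I g) 𝔞).mem_of_local fun z hz => ?_
    obtain ⟨Va, ia, hzVa, hVa⟩ := hb ((comps I g 0).base z) (l hz)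
    let V'' : Opens (𝔜.X 0).toTopCat := V' ⊓ (Opens.map (comps I g 0).base).obj Va.1
    refine ⟨V'', inf_le_left, ⟨hz, hzVa⟩, ?_⟩
    let θ' : Γ(Spec (CommRingCat.of A), Va.1) →+* (𝔜.Osh h).obj.obj (op V'') :=
      (res (inf_le_right : V'' ≤ _)).comp ((FSch.schSharp 𝔜 h (comps I g) (comps_comm I g)).hom.app (op Va.1)).hom
    have hnat' : ∀ (U : (Spec (CommRingCat.of A)).Opens) (k : Va.1 ≤ U) (z : Γ(Spec (CommRingCat.of A), U))
        (l : V'' ≤ (Opens.map (comps I g 0).base).obj U),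
        θ' ((Spec (CommRingCat.of A)).presheaf.map (homOfLE k).op z) =
          res l ((FSch.schSharp 𝔜 h (comps I g) (comps_comm I g)).hom.app (op U) z) := fun U k z l => by
      refine (congrArg (res (inf_le_right : V'' ≤ _))
        (congr($((FSch.schSharp 𝔜 h (comps I g) (comps_comm I g)).hom.naturality (homOfLE k).op) z))).trans ?_
      exact res_res _ _ _
    refine (congrArg (fun w : (𝔜.Osh h).obj.obj (op V'') => w ∈ (genIdeal h (comps I g) (comps_comm I g) 𝔞).sect V'')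
      ((res_res _ _ _).trans (hnat' Wb ia b (fun w hw => ia hw.2)).symm)).mpr ?_
    rw [ideal_idealSpec_affine] at hVa
    refine (Ideal.map_le_iff_le_comap.2 fun a' ha' => ?_ :
      Ideal.map _ 𝔞 ≤ ((genIdeal h (comps I g) (comps_comm I g) 𝔞).sect V'').comap θ') hVa
    show θ' ((Spec (CommRingCat.of A)).presheaf.map (homOfLE le_top).op ((Scheme.ΓSpecIso (CommRingCat.of A)).inv a')) ∈ (genIdeal h (comps I g) (comps_comm I g) 𝔞).sect V''
    rw [hnat' ⊤ le_top _ le_top]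
    exact IdealSh.subset_gen _ V'' ⟨a', ha', rfl⟩
  rw [hnat W i' a (inf_le_left.trans j)] at h1
  exact (congrArg (fun w : (𝔜.Osh h).obj.obj (op V') => w ∈ (genIdeal h (comps I g) (comps_comm I g) 𝔞).sect V')
    (res_res _ _ _)).mpr h1

theorem mem_ofData_top {a : A} (ha : a ∈ 𝔞) :
    (Scheme.ΓSpecIso (CommRingCat.of A)).inv a ∈ (IdealSh.ofData (FSch.idealSpec A 𝔞)).sect ⊤ := fun x hx => by
  refine ⟨⟨⊤, isAffineOpen_top _⟩, le_rfl, hx, ?_⟩
  rw [ideal_idealSpec_affine]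
  exact Ideal.mem_map_of_mem _ ha

theorem fn_mem_idealMap {a : A} (ha : a ∈ 𝔞) :
    fn h (comps I g) (comps_comm I g) a ∈ (idealMap g h hX (JI I hX 𝔞)).sect ⊤ := by
  have h1 := IdealSh.image_mem_map (FSch.spfToSpec A I 0).base
    (FSch.schSharp (FSch.spf A I) hX (FSch.spfToSpec A I) (FSch.spfToSpec_comm A I))
    (IdealSh.ofData (FSch.idealSpec A 𝔞)) (mem_ofData_top 𝔞 ha) (V := (Opens.map (FSch.spfToSpec A I 0).base).obj ⊤) le_rfl
  have h2 := IdealSh.image_mem_map ((g : FSch.Hom 𝔜 (FSch.spf A I)).app 0).base (FSch.Hom.sharp g h hX) _ h1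
    (V := (⊤ : Opens (𝔜.X 0).toTopCat)) le_rfl
  refine (congrArg (fun w : (𝔜.Osh h).obj.obj (op ⊤) => w ∈ (idealMap g h hX (JI I hX 𝔞)).sect ⊤)
    ((res_self _ _).trans ((congrArg ((FSch.Hom.sharp g h hX).hom.app (op ((Opens.map (FSch.spfToSpec A I 0).base).obj ⊤)))
      (res_self _ _)).trans ?_))).mp h2
  exact sharp_schSharp I hX h g ⊤ _

end Map

end GrothLib.IntBlow7
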