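import Groth.Agent.Lib.IntBlow7.Basic
import Groth.Agent.Lib.IntBlow7.Alg
import Groth.Agent.Lib.FSchSys.SpecKer

/-!
# Formal spectra of finite extensions inside a blowing-up
-/

set_option autoImplicit false
set_option linter.style.haveILetI false
set_option linter.unusedSectionVars false
set_option backward.isDefEq.respectTransparency false
set_option maxHeartbeats 1200000
universe u

open CategoryTheory CategoryTheory.Limits AlgebraicGeometry TopologicalSpace Opposite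

noncomputable section

namespace GrothLib.IntBlow7

open FBlow

/-- A criterion for sections killed by a function to vanish on a closed subscheme. -/
theorem appLE_eq_zero {R S : CommRingCat.{u}} (φ : R ⟶ S) (τ : Γ(Spec R, ⊤))
    (hτ : ∀ a : Γ(Spec R, ⊤), τ * a = 0 → (Spec.map φ).appTop a = 0) {U : (Spec R).Opens} (σ : Γ(Spec R, U))
    (hσ : σ * (Spec R).presheaf.map (homOfLE (le_top : U ≤ ⊤)).op τ = 0) (W : (Spec S).Opens)
    (e : W ≤ Spec.map φ ⁻¹ᵁ U) : (Spec.map φ).appLE U W e σ = 0 := by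
  refine eq_zero_of_local (O := (Spec S).sheaf) _ fun y hy => ?_
  obtain ⟨h', hh', hyh⟩ := (isAffineOpen_top (Spec R)).exists_basicOpen_le (V := U) ⟨Spec.map φ y, e hy⟩ trivial
  let V' : (Spec S).Opens := W ⊓ Spec.map φ ⁻¹ᵁ (Spec R).basicOpen h'
  refine ⟨V', inf_le_left, ⟨hy, hyh⟩, ?_⟩
  let Θ : Γ(Spec R, (Spec R).basicOpen h') →+* Γ(Spec S, V') := ((Spec.map φ).appLE _ V' inf_le_right).hom
  have hΘ : ∀ a : Γ(Spec R, ⊤), Θ (algebraMap Γ(Spec R, ⊤) _ a) =
      (Spec S).presheaf.map (homOfLE (le_top : V' ≤ ⊤)).op ((Spec.map φ).appTop a) := fun a => by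
    show ((Spec R).presheaf.map _ ≫ (Spec.map φ).appLE _ V' inf_le_right) a = _
    rw [Scheme.Hom.map_appLE]
    rfl
  haveI := (isAffineOpen_top (Spec R)).isLocalization_basicOpen h'
  let σ' : Γ(Spec R, (Spec R).basicOpen h') := (Spec R).presheaf.map (homOfLE hh').op σ
  obtain ⟨⟨a, _, k, rfl⟩, ha⟩ := IsLocalization.surj (Submonoid.powers h') σ'
  have h1 : algebraMap Γ(Spec R, ⊤) Γ(Spec R, (Spec R).basicOpen h') (τ * a) = 0 := by
    have h2 : σ' * algebraMap Γ(Spec R, ⊤) _ τ = 0 := by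
      have h3 := congrArg ((Spec R).presheaf.map (homOfLE hh').op) hσ
      rw [map_zero, map_mul, ← CommRingCat.comp_apply ((Spec R).presheaf.map _), ← Functor.map_comp] at h3
      exact h3
    rw [map_mul, ← ha]
    show algebraMap _ _ τ * (σ' * algebraMap _ _ (h' ^ k)) = 0
    rw [← mul_assoc, mul_comm (algebraMap _ _ τ) σ', h2, zero_mul]
  obtain ⟨⟨_, l, rfl⟩, hl⟩ := (IsLocalization.map_eq_zero_iff (Submonoid.powers h') _ _).1 h1
  have h4 : Θ σ' * Θ (algebraMap _ _ (h' ^ (k + l))) = 0 := by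
    rw [← map_mul, pow_add, map_mul (algebraMap _ _), ← mul_assoc, ha, ← map_mul, hΘ,
      hτ (a * h' ^ l) (by rw [← hl]; ring), map_zero]
  have hu : IsUnit (Θ (algebraMap Γ(Spec R, ⊤) Γ(Spec R, (Spec R).basicOpen h') (h' ^ (k + l)))) :=
    (IsLocalization.map_units (M := Submonoid.powers h') _ ⟨_, _, rfl⟩).map Θ
  have h5 := hu.mul_left_eq_zero.1 h4
  refine Eq.trans ?_ h5
  show ((Spec.map φ).appLE U W e ≫ (Spec S).presheaf.map (homOfLE (inf_le_left : V' ≤ W)).op) σ =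
    ((Spec R).presheaf.map (homOfLE hh').op ≫ (Spec.map φ).appLE _ V' inf_le_right) σ
  rw [Scheme.Hom.appLE_map, Scheme.Hom.map_appLE]

/-- A function without torsion gives a function without torsion on the formal spectrum. -/
theorem isNzd_spf {B : Type u} [CommRing B] (t : B) (ht : ∀ x : B, t * x = 0 → x = 0)
    (hZ : (FSch.spf B (Ideal.span {t})).IsFormal) :
    IsNzd (O := (FSch.spf B (Ideal.span {t})).Osh hZ)
      (fn hZ (FSch.spfToSpec B (Ideal.span {t})) (FSch.spfToSpec_comm B _) t) := by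
  intro V s hs
  refine FFormal7.Osh_section_ext _ hZ V _ _ fun n => ?_
  rw [map_zero, ← FFormal7.OshProj_levelMap_apply]
  have hs1 := congrArg (((FSch.spf B (Ideal.span {t})).OshProj hZ (n + 1)).hom.app (op V)) hs
  rw [map_mul, map_zero] at hs1
  let τ : Γ((FSch.spf B (Ideal.span {t})).X (n + 1), ⊤) := secOf (FSch.spfToSpec B (Ideal.span {t}) (n + 1)) t
  have hτ1 : ((FSch.spf B (Ideal.span {t})).OshProj hZ (n + 1)).hom.app (op V)
      (res (le_top : V ≤ ⊤) (fn hZ (FSch.spfToSpec B (Ideal.span {t})) (FSch.spfToSpec_comm B _) t)) =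
      ((FSch.spf B (Ideal.span {t})).X (n + 1)).presheaf.map (homOfLE (le_top : _ ≤ ⊤)).op τ :=
    (congr($(((FSch.spf B (Ideal.span {t})).OshProj hZ (n + 1)).hom.naturality (homOfLE (le_top : V ≤ ⊤)).op)
      (fn hZ (FSch.spfToSpec B (Ideal.span {t})) (FSch.spfToSpec_comm B _) t))).trans
      (congrArg (((FSch.spf B (Ideal.span {t})).X (n + 1)).presheaf.map (homOfLE (le_top : _ ≤ ⊤)).op)
        (proj_fn hZ _ _ (n + 1) t))
  rw [hτ1] at hs1
  refine appLE_eq_zero _ τ (fun a ha => ?_) _ hs1 _ _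
  let R₁ : CommRingCat.{u} := CommRingCat.of (B ⧸ Ideal.span {t} ^ (n + 1 + 1))
  let a' : R₁ := (Scheme.ΓSpecIso R₁).hom a
  obtain ⟨a₀, ha₀⟩ := Ideal.Quotient.mk_surjective (show B ⧸ Ideal.span {t} ^ (n + 1 + 1) from a')
  have hτ2 : τ = (Scheme.ΓSpecIso R₁).inv (Ideal.Quotient.mk _ t) :=
    (congr($(Scheme.ΓSpecIso_inv_naturality (CommRingCat.ofHom
      (Ideal.Quotient.mk (Ideal.span {t} ^ (n + 1 + 1))))) t)).symm
  have ha' : a = (Scheme.ΓSpecIso R₁).inv (Ideal.Quotient.mk _ a₀) := by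
    rw [ha₀]
    exact (congr($((Scheme.ΓSpecIso R₁).hom_inv_id) a)).symm
  have h1 : t * a₀ ∈ Ideal.span {t} ^ (n + 1 + 1) := by
    rw [← Ideal.Quotient.eq_zero_iff_mem]
    refine (ConcreteCategory.bijective_of_isIso (Scheme.ΓSpecIso R₁).inv).1 ?_
    rw [map_zero, ← ha, hτ2, ha', ← map_mul]
    rfl
  rw [Ideal.span_singleton_pow, Ideal.mem_span_singleton] at h1
  obtain ⟨w, hw⟩ := h1
  have h2 : a₀ ∈ Ideal.span {t} ^ (n + 1) := by
    rw [Ideal.span_singleton_pow, Ideal.mem_span_singleton]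
    refine ⟨w, sub_eq_zero.1 (ht _ ?_)⟩
    rw [mul_sub, hw]
    ring
  rw [ha']
  refine (congr($((Scheme.ΓSpecIso_inv_naturality (CommRingCat.ofHom (Ideal.Quotient.factor
    (Ideal.pow_le_pow_right (Nat.le_succ (n + 1)))) : R₁ ⟶ CommRingCat.of (B ⧸ Ideal.span {t} ^ (n + 1)))).symm)
      (Ideal.Quotient.mk _ a₀))).trans ?_
  show (Scheme.ΓSpecIso (CommRingCat.of (B ⧸ Ideal.span {t} ^ (n + 1)))).inv (Ideal.Quotient.mk (Ideal.span {t} ^ (n + 1)) a₀) = 0
  rw [Ideal.Quotient.eq_zero_iff_mem.2 h2]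
  exact map_zero _

variable {A : Type u} [CommRing A] {M : Type u} [CommRing M] [Algebra A M] {c t : A} {N₀ : ℕ} {c₀ : A}

/-- The generators of the blown up ideal become multiples of the common denominator. -/
theorem exists_quot (hinj : Function.Injective (algebraMap A M)) {n : ℕ} (f : Fin n → M) (g : Fin n → A)
    (hg : ∀ i, algebraMap A M (g i) = algebraMap A M c * f i) (hf : ∀ i, IsIntegral A (f i))
    (hX : (FSch.spf A (Ideal.span {t})).IsFormal) {𝔜 : FSch.Sys.{u}} (h : 𝔜.IsFormal)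
    (gY : 𝔜 ⟶ FSch.spf A (Ideal.span {t}))
    (hinv : (idealMap gY h hX (JI (Ideal.span {t}) hX (Ideal.span (insert c (Set.range g))))).IsInvertible) :
    IsNzd (O := 𝔜.Osh h) (fn h (comps (Ideal.span {t}) gY) (comps_comm _ gY) c) ∧
      ∀ i, ∃ e, fn h (comps (Ideal.span {t}) gY) (comps_comm _ gY) (g i) =
        e * fn h (comps (Ideal.span {t}) gY) (comps_comm _ gY) c := by
  let 𝔞 : Ideal A := Ideal.span (insert c (Set.range g))
  let φ := fn h (comps (Ideal.span {t}) gY) (comps_comm _ gY)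
  have hc : c ∈ 𝔞 := Ideal.subset_span (Set.mem_insert _ _)
  have hgi : ∀ i, g i ∈ 𝔞 := fun i => Ideal.subset_span (Set.mem_insert_of_mem _ ⟨i, rfl⟩)
  have hloc : ∀ x : 𝔜.X 0, ∃ V : Opens (𝔜.X 0).toTopCat, x ∈ V ∧
      (∀ (W : Opens (𝔜.X 0).toTopCat) (_ : W ≤ V) (s : (𝔜.Osh h).obj.obj (op W)), s * res le_top (φ c) = 0 → s = 0) ∧
      ∀ i, ∃ e : (𝔜.Osh h).obj.obj (op V), res le_top (φ (g i)) = e * res le_top (φ c) := by
    intro x
    obtain ⟨U, hxU, γ, hγ, hU⟩ := hinv x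
    obtain ⟨V₁, i₁, hx₁, hspan⟩ := idealMap_le_genIdeal (Ideal.span {t}) hX h gY 𝔞 U hγ x hxU
    let ρ : A →+* (𝔜.Osh h).obj.obj (op V₁) := (res le_top).comp φ
    have hγ₁ : res i₁ γ ∈ 𝔞.map ρ := by
      refine (Ideal.span_le.2 ?_) hspan
      rintro _ ⟨W, j, _, ⟨a, ha, rfl⟩, rfl⟩
      show res j (res le_top (φ a)) ∈ _
      rw [res_res]
      exact Ideal.mem_map_of_mem ρ ha
    have hmult : ∀ a ∈ 𝔞, ∃ y, ρ a = y * res i₁ γ := fun a ha =>
      (hU V₁ i₁).2 _ ((idealMap gY h hX (JI (Ideal.span {t}) hX 𝔞)).map_mem le_top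
        (fn_mem_idealMap (Ideal.span {t}) hX h gY 𝔞 ha))
    obtain ⟨u, hc', hquot⟩ := unit_of_multiples hinj f g hg hf ρ (hU V₁ i₁).1 hγ₁ hmult
    refine ⟨V₁, hx₁, fun W hW s hs => ?_, hquot⟩
    have h2 := congrArg (res hW) hc'
    rw [map_mul, res_res] at h2
    change res hW (res le_top (φ c)) = _ at h2
    rw [res_res] at h2
    rw [h2, ← mul_assoc] at hs
    exact (u.isUnit.map (res hW)).mul_left_eq_zero.1 ((hU W (hW.trans i₁)).1 _ hs)
  have hnzd : IsNzd (O := 𝔜.Osh h) (φ c) := fun W s hs => eq_zero_of_local s fun x hx => by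
    obtain ⟨V, hxV, hV, -⟩ := hloc x
    refine ⟨W ⊓ V, inf_le_left, ⟨hx, hxV⟩, hV _ inf_le_right _ ?_⟩
    have := congrArg (res (inf_le_left : W ⊓ V ≤ W)) hs
    rwa [map_mul, map_zero, res_res] at this
  refine ⟨hnzd, fun i => ?_⟩
  obtain ⟨e, he⟩ := exists_div hnzd (φ (g i)) fun x _ => by
    obtain ⟨V, hxV, -, hV⟩ := hloc x
    exact ⟨V, le_top, hxV, hV i⟩
  exact ⟨e, by rw [res_self] at he; exact he⟩

/-- The universal property. -/
theorem isAdmBlowUp (hinj : Function.Injective (algebraMap A M)) (hu : IsUnit (algebraMap A M t))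
    (hct : c₀ * c = t ^ N₀) {n : ℕ} (f : Fin n → M) (g : Fin n → A)
    (hg : ∀ i, algebraMap A M (g i) = algebraMap A M c * f i) (hf : ∀ i, IsIntegral A (f i))
    (hX : (FSch.spf A (Ideal.span {t})).IsFormal)
    (h' : (FSch.spf ↥(Algebra.adjoin A (Set.range f)) (Ideal.span {algebraMap A _ t})).IsFormal)
    (hle : Ideal.span {t} ≤ (Ideal.span {algebraMap A ↥(Algebra.adjoin A (Set.range f)) t}).comap (algebraMap A _)) :
    IsAdmBlowUp (FSch.spfMap _ _ (algebraMap A ↥(Algebra.adjoin A (Set.range f))) hle) h' hX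
      (JI (Ideal.span {t}) hX (Ideal.span (insert c (Set.range g)))) := by
  let B := Algebra.adjoin A (Set.range f)
  let I : Ideal A := Ideal.span {t}
  let I' : Ideal B := Ideal.span {algebraMap A B t}
  let b : FSch.spf B I' ⟶ FSch.spf A I := FSch.spfMap I' I (algebraMap A B) hle
  let 𝔞 : Ideal A := Ideal.span (insert c (Set.range g))
  have hI : I.map (algebraMap A B) = I' := by rw [Ideal.map_span, Set.image_singleton]
  have hadic : FSch.IsAdicHom b := fun m => by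
    refine (GrothLib.FSchSys.isPullback_spec_iff
      (CommRingCat.ofHom (FSch.quotPowMap I' I (algebraMap A B) hle (m + 1)))
      (CommRingCat.ofHom (FSch.quotPowMap I' I (algebraMap A B) hle m)) (CommRingCat.ofHom (Ideal.Quotient.factor _))
      (CommRingCat.ofHom (Ideal.Quotient.factor _))
      (Ideal.Quotient.factor_surjective (Ideal.pow_le_pow_right (Nat.le_succ (m + 1))))
      (Ideal.Quotient.factor_surjective (Ideal.pow_le_pow_right (Nat.le_succ (m + 1))))
      (CommRingCat.hom_ext (Ideal.Quotient.ringHom_ext (RingHom.ext fun x => rfl)))).2 ?_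
    simp only [CommRingCat.hom_ofHom, Ideal.Quotient.factor_ker]
    rw [Ideal.map_map, show (FSch.quotPowMap I' I (algebraMap A B) hle (m + 1)).comp (Ideal.Quotient.mk (I ^ (m + 1 + 1))) =
      (Ideal.Quotient.mk (I' ^ (m + 1 + 1))).comp (algebraMap A B) from RingHom.ext fun x => rfl, ← Ideal.map_map,
      Ideal.map_pow, hI]
  let p' := FSch.spfToSpec B I'
  have hb : ∀ a, fn h' (comps I b) (comps_comm I b) a =
      fn h' p' (FSch.spfToSpec_comm B I') (algebraMap A B a) :=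
    fn_comp_map h' p' (FSch.spfToSpec_comm B I') (algebraMap A B) (comps I b) (comps_comm I b) fun m => by
      show Spec.map _ ≫ Spec.map _ = Spec.map _ ≫ Spec.map _
      rw [← Spec.map_comp, ← Spec.map_comp, ← CommRingCat.ofHom_comp, ← CommRingCat.ofHom_comp]
      rfl
  have htB : ∀ x : B, algebraMap A B t * x = 0 → x = 0 := fun x hx =>
    Subtype.ext (hu.mul_right_eq_zero.1 (congrArg Subtype.val hx))
  have hnz : IsNzd (O := (FSch.spf B I').Osh h') (fn h' p' (FSch.spfToSpec_comm B I') (algebraMap A B c)) := by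
    intro V s hs
    have h1 := isNzd_spf (algebraMap A B t) htB h'
    have h2 : s * res le_top (fn h' p' (FSch.spfToSpec_comm B I') (algebraMap A B t)) ^ N₀ = 0 := by
      rw [← map_pow, ← map_pow, ← map_pow, ← hct, mul_comm c₀ c, map_mul, map_mul, map_mul, ← mul_assoc, hs, zero_mul]
    revert h2
    generalize N₀ = k
    induction k with
    | zero => intro h2; simpa using h2
    | succ k ih => intro h2; exact ih (h1 V _ (by rw [mul_assoc, ← pow_succ]; exact h2))
  have hgi : ∀ i, algebraMap A B (g i) = ⟨f i, Algebra.subset_adjoin ⟨i, rfl⟩⟩ * algebraMap A B c := fun i =>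
    Subtype.ext ((hg i).trans (mul_comm _ _))
  have hinvert : (idealMap b h' hX (JI I hX 𝔞)).IsInvertible := by
    intro x
    refine ⟨⊤, trivial, fn h' p' (FSch.spfToSpec_comm B I') (algebraMap A B c), ?_, fun V i => ⟨fun s hs => hnz V s hs, fun s hs => ?_⟩⟩
    · rw [← hb]
      exact fn_mem_idealMap I hX h' b 𝔞 (Ideal.subset_span (Set.mem_insert _ _))
    · refine exists_div hnz s fun y hy => ?_
      obtain ⟨W, j, hyW, hW⟩ := idealMap_le_genIdeal I hX h' b 𝔞 V hs y hy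
      refine ⟨W, j, hyW, Ideal.mem_span_singleton'.1 ?_ |>.imp fun _ e => e.symm⟩
      refine (Ideal.span_le.2 ?_) hW
      rintro _ ⟨W', k, _, ⟨a, ha, rfl⟩, rfl⟩
      show res k (res le_top (fn h' (comps I b) (comps_comm I b) a)) ∈ _
      rw [res_res]
      refine Ideal.mem_comap.1 ((Ideal.map_le_iff_le_comap.1 (?_ : Ideal.map ((res (le_top : W ≤ ⊤)).comp (fn h' (comps I b) (comps_comm I b))) 𝔞 ≤ Ideal.span {res (le_top : W ≤ ⊤) (fn h' p' (FSch.spfToSpec_comm B I') (algebraMap A B c))})) ha)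
      rw [Ideal.map_span, Ideal.span_le]
      rintro _ ⟨a, (rfl | ⟨i, rfl⟩), rfl⟩
      · show res le_top (fn h' (comps I b) (comps_comm I b) a) ∈ _
        rw [hb]
        exact Ideal.mem_span_singleton_self _
      · show res le_top (fn h' (comps I b) (comps_comm I b) (g i)) ∈ _
        rw [hb, hgi, map_mul, map_mul]
        exact Ideal.mul_mem_left _ _ (Ideal.mem_span_singleton_self _)
  refine ⟨hadic, hinvert, fun 𝔜 h𝔜 gY _ hY => ?_⟩
  obtain ⟨hcn, he⟩ := exists_quot hinj f g hg hf hX h𝔜 gY hY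
  have hcn' : ∀ y, y * fn h𝔜 (comps I gY) (comps_comm I gY) c = 0 → y = 0 := fun y hy =>
    hcn ⊤ y (by rw [res_self]; exact hy)
  obtain ⟨ψ, hψ⟩ := exists_extend hinj (fn h𝔜 (comps I gY) (comps_comm I gY)) hcn' f g hg he
  let ψn : ∀ m, B →+* Γ(𝔜.X m, ⊤) := fun m =>
    (show (𝔜.Osh h𝔜).obj.obj (op ⊤) →+* Γ(𝔜.X m, ⊤) from ((𝔜.OshProj h𝔜 m).hom.app (op ⊤)).hom).comp ψ
  have hψn : ∀ m a, ψn m (algebraMap A B a) = secOf ((gY : FSch.Hom 𝔜 (FSch.spf A I)).app m) (Ideal.Quotient.mk _ a) := fun m a => by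
    show (𝔜.OshProj h𝔜 m).hom.app (op ⊤) (ψ _) = _
    rw [hψ]
    refine (proj_fn h𝔜 _ _ m a).trans ?_
    exact congr($(secOf_comp_map ((gY : FSch.Hom 𝔜 (FSch.spf A I)).app m)
      (CommRingCat.ofHom (Ideal.Quotient.mk (I ^ (m + 1))))) a)
  have hkill : ∀ m, ∀ x ∈ I' ^ (m + 1), ψn m x = 0 := fun m x hx => by
    rw [Ideal.span_singleton_pow, Ideal.mem_span_singleton] at hx
    obtain ⟨w, rfl⟩ := hx
    rw [map_mul, ← map_pow, hψn, Ideal.Quotient.eq_zero_iff_mem.2, map_zero, zero_mul]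
    rw [Ideal.span_singleton_pow]
    exact Ideal.mem_span_singleton_self _
  let kn : ∀ m, 𝔜.X m ⟶ (FSch.spf B I').X m := fun m =>
    toSpec (R := CommRingCat.of (B ⧸ I' ^ (m + 1))) (Ideal.Quotient.lift _ (ψn m) (hkill m))
  have hkn : ∀ m, secOf (kn m) = Ideal.Quotient.lift _ (ψn m) (hkill m) := fun m => secOf_toSpec _
  let k : 𝔜 ⟶ FSch.spf B I' := ⟨kn, fun m => secOf_ext (Ideal.Quotient.ringHom_ext (RingHom.ext fun x => by
      show secOf (kn m ≫ Spec.map (CommRingCat.ofHom (Ideal.Quotient.factor _))) (Ideal.Quotient.mk _ x) =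
        secOf (𝔜.ι m ≫ kn (m + 1)) (Ideal.Quotient.mk _ x)
      rw [secOf_comp_map, secOf_precomp, hkn, RingHom.comp_apply, RingHom.comp_apply, hkn]
      simp only [CommRingCat.hom_ofHom, Ideal.Quotient.factor_mk, Ideal.Quotient.lift_mk]
      refine Eq.trans ?_ ((ConcreteCategory.congr_hom (show (𝔜.ι m).appLE (𝔜.lvU h𝔜 (m + 1) ⊤) (𝔜.lvU h𝔜 m ⊤) _ =
        (𝔜.ι m).appTop from (Scheme.Hom.app_eq_appLE _).symm) (ψn (m + 1) x)))
      exact (FFormal7.OshProj_levelMap_apply 𝔜 h𝔜 ⊤ m (ψ x)).symm))⟩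
  refine ⟨k, ?_, fun k' hk' => ?_⟩
  · refine FSch.Hom.ext (funext fun m => secOf_ext (Ideal.Quotient.ringHom_ext (RingHom.ext fun a => ?_)))
    show secOf (kn m ≫ Spec.map (CommRingCat.ofHom (FSch.quotPowMap I' I (algebraMap A B) hle m))) (Ideal.Quotient.mk _ a) =
      secOf ((gY : FSch.Hom 𝔜 (FSch.spf A I)).app m) (Ideal.Quotient.mk _ a)
    rw [secOf_comp_map, hkn, ← hψn]
    rfl
  · let q : ∀ m, 𝔜.X m ⟶ Spec (CommRingCat.of B) := fun m => (k' : FSch.Hom 𝔜 (FSch.spf B I')).app m ≫ FSch.spfToSpec B I' m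
    have hq : ∀ m, 𝔜.ι m ≫ q (m + 1) = q m := comps_comm I' k'
    have hfn : fn h𝔜 q hq = ψ := by
      refine hom_ext_fraction f g hg _ _ (fun a => ?_) ?_
      all_goals
        have hA : ∀ a, fn h𝔜 q hq (algebraMap A B a) = fn h𝔜 (comps I gY) (comps_comm I gY) a := fun a =>
          (fn_comp_map h𝔜 q hq (algebraMap A B) (comps I gY) (comps_comm I gY) (fun m => by
            subst hk'
            show ((k' : FSch.Hom 𝔜 (FSch.spf B I')).app m ≫ Spec.map _) ≫ Spec.map _ = (_ ≫ Spec.map _) ≫ Spec.map _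
            rw [Category.assoc, Category.assoc, ← Spec.map_comp, ← Spec.map_comp, ← CommRingCat.ofHom_comp,
              ← CommRingCat.ofHom_comp]
            rfl) a).symm
      · rw [hA, hψ]
      · rw [hA]; exact hcn'
    refine FSch.Hom.ext (funext fun m => secOf_ext (Ideal.Quotient.ringHom_ext (RingHom.ext fun x => ?_)))
    show secOf ((k' : FSch.Hom 𝔜 (FSch.spf B I')).app m) (Ideal.Quotient.mk _ x) = secOf (kn m) (Ideal.Quotient.mk _ x)
    rw [hkn, Ideal.Quotient.lift_mk]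
    show _ = (𝔜.OshProj h𝔜 m).hom.app (op ⊤) (ψ x)
    rw [← hfn]
    refine Eq.trans ?_ (proj_fn h𝔜 q hq m x).symm
    exact (congr($(secOf_comp_map ((k' : FSch.Hom 𝔜 (FSch.spf B I')).app m)
      (CommRingCat.ofHom (Ideal.Quotient.mk (I' ^ (m + 1))))) x)).symm

/-- The universal property, with the ideals of definition given up to equality. -/
theorem isAdmBlowUp' (hinj : Function.Injective (algebraMap A M)) (hu : IsUnit (algebraMap A M t))
    (hct : c₀ * c = t ^ N₀) {n : ℕ} (f : Fin n → M) (g : Fin n → A)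
    (hg : ∀ i, algebraMap A M (g i) = algebraMap A M c * f i) (hf : ∀ i, IsIntegral A (f i))
    (I : Ideal A) (I' : Ideal ↥(Algebra.adjoin A (Set.range f)))
    (hI : I = Ideal.span {t}) (hI' : I' = Ideal.span {algebraMap A _ t})
    (hX : (FSch.spf A I).IsFormal) (h' : (FSch.spf ↥(Algebra.adjoin A (Set.range f)) I').IsFormal)
    (hle : I ≤ I'.comap (algebraMap A _)) :
    IsAdmBlowUp (FSch.spfMap I' I (algebraMap A ↥(Algebra.adjoin A (Set.range f))) hle) h' hX
      (JI I hX (Ideal.span (insert c (Set.range g)))) := by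
  subst hI hI'
  exact isAdmBlowUp hinj hu hct f g hg hf hX h' hle

end GrothLib.IntBlow7
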